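import Mathlib
import Cfsg.Agent.Lib.WAb.Frob
import Cfsg.Agent.S4549

/-! Principal 2-blocks on which `χ 1 - χ u` is constant: first consequences. -/

namespace CfsgLib.CDeg

open Subgroup Cfsg CfsgLib.Char CfsgLib.Block CfsgLib.Blk CfsgLib.Cover CfsgLib.ChDeg
open CfsgLib.BrPair (Cz Nz Ce)
open scoped ComplexConjugate

variable {G : Type*} [Group G] [Finite G] {M : Ideal AlgInt} {p : ℕ}

theorem orth (hM : IsPModular p M) {g h x y : G} (hx : IsPPart p g x) (hy : IsPPart p h y)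
    (hxy : ¬ IsConj x y) :
    ∑ χ ∈ bf (principalBlock M G), (χ : G → ℂ) g * conj ((χ : G → ℂ) h) = 0 := by
  rw [← finsum_bf]
  exact block_orth_conj hM isPBlock_principalBlock hx hy hxy

/-- The non-principal characters of the principal block. -/
noncomputable def bp (M : Ideal AlgInt) (G : Type*) [Group G] [Finite G] :
    Finset (IrrCharacter G) := by classical exact (bf (principalBlock M G)).erase (irrOne G)

theorem mem_bp {χ : IrrCharacter G} : χ ∈ bp M G ↔ χ ≠ irrOne G ∧ χ ∈ principalBlock M G := by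
  simp [bp, mem_bf]

theorem sum_bp (hM : IsPModular p M) {β : Type*} [AddCommMonoid β] (f : IrrCharacter G → β) :
    ∑ χ ∈ bf (principalBlock M G), f χ = f (irrOne G) + ∑ χ ∈ bp M G, f χ := by
  classical
  exact (Finset.add_sum_erase _ f (mem_bf.2 (irrOne_mem_principalBlock hM))).symm

theorem pp_one (hp : p.Prime) : IsPPart p (1 : G) 1 := isPPart_one (by simpa using hp.ne_one)

theorem eq_one_of_ker (hM : IsPModular p M) (hO : pPrimeCore p G = ⊥) {g : G}
    (hg : ∀ ψ ∈ principalBlock M G, (ψ : G → ℂ) g = (ψ : G → ℂ) 1) : g = 1 := by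
  have := Fact.mk hM.1
  set K : Subgroup G := ⨅ ψ : principalBlock M G, cker (ψ.1 : G → ℂ)
  have hK : ∀ x, x ∈ K ↔ ∀ ψ ∈ principalBlock M G, (ψ : G → ℂ) x = (ψ : G → ℂ) 1 := fun x => by
    simp only [K, Subgroup.mem_iInf, mem_cker (irr_isCharacter _), Subtype.forall]
  haveI : K.Normal := Subgroup.normal_iInf_normal fun ψ => cker_normal _
  suffices (Nat.card K).Coprime p by
    have h1 := Core.le_pPrimeCore this ((hK g).2 hg)
    rwa [hO] at h1
  rw [Nat.coprime_comm, hM.1.coprime_iff_not_dvd]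
  intro hd
  obtain ⟨⟨x, hx⟩, hxo⟩ := exists_prime_orderOf_dvd_card' p hd
  rw [Subgroup.orderOf_mk] at hxo
  have h1 := orth hM (isPPart_self hM.1 ⟨1, by rw [hxo, pow_one]⟩) (pp_one hM.1) fun h => by
    rw [isConj_one_left.1 h, orderOf_one] at hxo
    exact hM.1.ne_one hxo.symm
  have h2 : ∑ χ ∈ bf (principalBlock M G),
      charDegree (χ : G → ℂ) * charDegree (χ : G → ℂ) = 0 := by
    apply Nat.cast_injective (R := ℂ)
    push_cast
    rw [← h1]
    refine Finset.sum_congr rfl fun χ hχ => ?_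
    rw [(hK _).1 hx χ (mem_bf.1 hχ), ← charDegree_eq (irr_isCharacter χ), map_natCast]
  exact charDegree_ne_zero (irrOne G).2 (mul_self_eq_zero.1 (Finset.sum_eq_zero_iff.1 h2 _
    (mem_bf.2 (irrOne_mem_principalBlock hM))))

theorem sum_ne_one (hM : IsPModular 2 M) (h2 : 2 ∣ Nat.card G) {x : G}
    (hx : ∃ j : ℕ, orderOf x = 2 ^ j) : ∑ χ ∈ bf (principalBlock M G), (χ : G → ℂ) x ≠ 1 := by
  classical
  intro h
  obtain ⟨j, hj⟩ := hx
  have h1 := li_sum hM (s := bf (principalBlock M G)) fun χ _ =>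
    li_char_sub_one hM (irr_isCharacter χ) (g := x) (j := j) (hj ▸ pow_orderOf_eq_one x)
  have h3 := Cfsg.Agent.S4549.even_card_odd hM h2
  rw [card_bf, show bf _ = (bf (principalBlock M G)).filter
    fun χ : IrrCharacter G => Odd (charDegree (χ : G → ℂ)) by ext; simp [mem_bf],
    ← Finset.even_sum_iff_even_card_odd] at h3
  have h4 := (li_natCast_iff hM _).2 h3.two_dvd
  rw [Finset.sum_sub_distrib, h] at h1
  simp only [Nat.cast_sum, charDegree_eq (irr_isCharacter _)] at h4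
  exact not_li_one hM (by simpa using li_add hM h1 h4)

theorem mem_principal_of_lin (hM : IsPModular p M) [Fact p.Prime] (P : Sylow p G)
    {χ : IrrCharacter G} (h1 : (χ : G → ℂ) 1 = 1) (h : Cz (P : Subgroup G) ≤ cker (χ : G → ℂ)) :
    χ ∈ principalBlock M G := fun g => by
  simp only [centralChar, h1, div_one, mul_one]
  rw [← mul_one_sub]
  by_cases hd : p ∣ (centralizer ({g} : Set G)).index
  · exact li_mul_right hM ((li_natCast_iff hM _).2 hd)
      (lr_sub hM (lr_one hM) (lr_char hM (irr_isCharacter χ) g))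
  obtain ⟨Q, hQ⟩ := Fgs.exists_sylow_le_of_not_dvd_index hd
  obtain ⟨a, rfl⟩ := MulAction.exists_smul_eq G P Q
  have h2 : a⁻¹ * g * a⁻¹⁻¹ ∈ Cz (P : Subgroup G) := fun y hy => by
    have h3 := hQ (show a * y * a⁻¹ ∈ ((a • P : Sylow p G) : Subgroup G) from ⟨y, hy, rfl⟩) g rfl
    calc y * (a⁻¹ * g * a⁻¹⁻¹) = a⁻¹ * (a * y * a⁻¹ * g) * a := by group
      _ = _ := by rw [← h3]; group
  have h3 := (mem_cker (irr_isCharacter χ)).1 (h h2)
  rw [irr_isClassFunction χ, h1] at h3
  rw [h3, sub_self, mul_zero]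
  exact li_zero hM

theorem sum_fused {χ : G → ℂ} (hχ : IsCharacter G χ) (P : Subgroup G) {t : G}
    (h : ∀ x ∈ P, x ≠ 1 → IsConj x t) [Fintype P] :
    ∑ x : P, χ x = χ 1 + (Nat.card P - 1) * χ t := by
  classical
  rw [← Finset.add_sum_erase _ _ (Finset.mem_univ 1), Finset.sum_congr rfl (g := fun _ => χ t)
    fun (x : P) hx => classFun_eq_of_isConj (isClassFunction_of_isCharacter hχ)
      (h x x.2 (by simpa using hx)), Finset.sum_const, Finset.card_erase_of_mem (Finset.mem_univ _),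
    Finset.card_univ, Nat.card_eq_fintype_card, nsmul_eq_mul, Nat.cast_pred Fintype.card_pos]
  rfl

theorem exists_fused {χ : G → ℂ} (hχ : IsCharacter G χ) (P : Subgroup G) {t : G}
    (h : ∀ x ∈ P, x ≠ 1 → IsConj x t) :
    ∃ m : ℕ, (Nat.card P : ℂ) * m = χ 1 + (Nat.card P - 1) * χ t := by
  have := Fintype.ofFinite P
  obtain ⟨m, hm⟩ := exists_classInner_eq_nat (isCharacter_restrict P hχ)
    (isCharacter_of_isIrr isIrr_one)
  refine ⟨m, ?_⟩
  rw [← hm, classInner_one_right, ← mul_assoc, mul_inv_cancel₀ natCard_ne_zero, one_mul,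
    sum_fused hχ P h]

/-- The value of a character at an involution, as an integer. -/
noncomputable def dv (t : G) (χ : IrrCharacter G) : ℤ := ⌊((χ : G → ℂ) t).re⌋

theorem dv_eq {t : G} (ht : orderOf t = 2) (χ : IrrCharacter G) :
    (dv t χ : ℂ) = (χ : G → ℂ) t := by
  classical
  obtain ⟨m, hm⟩ := exists_fused (irr_isCharacter χ) (zpowers t) (t := t) fun x hx h1 => by
    rw [mem_zpowers_iff_mem_range_orderOf, ht] at hx
    obtain ⟨i, hi, rfl⟩ := Finset.mem_image.1 hx
    rw [Finset.mem_range] at hi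
    interval_cases i
    · simp at h1
    · rw [pow_one]
  rw [Nat.card_zpowers, ht, ← charDegree_eq (irr_isCharacter χ)] at hm
  have h : (χ : G → ℂ) t = ((2 * m - charDegree (χ : G → ℂ) : ℤ) : ℂ) := by
    push_cast at hm ⊢
    linear_combination -hm
  rw [dv, h, Complex.intCast_re, Int.floor_intCast]

theorem dv_le {t : G} (ht : orderOf t = 2) (χ : IrrCharacter G) :
    dv t χ ≤ charDegree (χ : G → ℂ) := by
  have h := norm_char_le (irr_isCharacter χ) t
  rw [← dv_eq ht, ← charDegree_eq (irr_isCharacter χ), Complex.norm_intCast,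
    Complex.norm_natCast] at h
  exact_mod_cast (le_abs_self _).trans h

/-- `χ 1 - χ t` is a positive multiple of `|P|`. -/
theorem exists_r {t : G} (ht : orderOf t = 2) (P : Subgroup G)
    (h : ∀ x ∈ P, x ≠ 1 → IsConj x t) {χ : IrrCharacter G} (hk : t ∉ cker (χ : G → ℂ)) :
    ∃ r : ℤ, 1 ≤ r ∧ 0 ≤ r + dv t χ ∧
      (charDegree (χ : G → ℂ) : ℤ) = Nat.card P * r + dv t χ := by
  obtain ⟨m, hm⟩ := exists_fused (irr_isCharacter χ) P h
  rw [← dv_eq ht, ← charDegree_eq (irr_isCharacter χ)] at hm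
  have h1 : (Nat.card P : ℤ) * m = charDegree (χ : G → ℂ) + (Nat.card P - 1) * dv t χ := by
    exact_mod_cast hm
  have h2 := (dv_le ht χ).lt_of_ne fun e => hk ((mem_cker (irr_isCharacter χ)).2 (by
    rw [← dv_eq ht, e, Int.cast_natCast, charDegree_eq (irr_isCharacter χ)]))
  have h3 : (0 : ℤ) < Nat.card P := by exact_mod_cast Nat.card_pos
  refine ⟨m - dv t χ, ?_, by simp, by linear_combination -h1⟩
  by_contra h4
  nlinarith

/-- The hypothesis. -/
structure Hyp (M : Ideal AlgInt) (u : G) (k : ℂ) : Prop where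
  hM : IsPModular 2 M
  O : pPrimeCore 2 G = ⊥
  ne : u ≠ 1
  h : ∀ χ ∈ bp M G, (χ : G → ℂ) 1 - (χ : G → ℂ) u = k

/-- All non-trivial 2-elements are conjugate to the involution `t` of `P`. -/
structure Fus (P : Sylow 2 G) (t : G) : Prop where
  mem : t ∈ (P : Subgroup G)
  ord : orderOf t = 2
  cj : ∀ x : G, (∃ j : ℕ, orderOf x = 2 ^ j) → x ≠ 1 → IsConj x t

namespace Hyp

variable {u : G} {k : ℂ} (H : Hyp M u k)
include H

theorem k_ne : k ≠ 0 := fun h => H.ne <| eq_one_of_ker H.hM H.O fun χ hχ => by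
  by_cases h1 : χ = irrOne G
  · rw [h1]; rfl
  · exact (sub_eq_zero.1 ((H.h χ (mem_bp.2 ⟨h1, hχ⟩)).trans h)).symm

theorem two_dvd : 2 ∣ Nat.card G := by
  by_contra h
  have := Core.le_pPrimeCore (p := 2) (N := ⊤) (by
    rw [card_top]; exact (Nat.prime_two.coprime_iff_not_dvd.2 h).symm) (mem_top u)
  rw [H.O] at this
  exact H.ne this

theorem isConj {t : G} (ht : IsPPart 2 u t) {x : G} (hx : ∃ j : ℕ, orderOf x = 2 ^ j)
    (h1 : x ≠ 1) : IsConj x t := by
  by_contra h
  have h2 := orth H.hM (isPPart_self Nat.prime_two hx) ht h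
  have h3 := orth H.hM (isPPart_self Nat.prime_two hx) (pp_one Nat.prime_two)
    fun e => h1 (isConj_one_left.1 e)
  refine sum_ne_one H.hM H.two_dvd hx ?_
  rw [sum_bp H.hM] at h2 h3 ⊢
  have h4 : (∑ χ ∈ bp M G, (χ : G → ℂ) x) * conj k = 0 := by
    rw [Finset.sum_mul, Finset.sum_congr rfl fun χ hχ => by rw [← H.h χ hχ, map_sub, mul_sub],
      Finset.sum_sub_distrib]
    simp only [irrOne_apply] at h2 h3
    linear_combination h3 - h2
  rw [(mul_eq_zero.1 h4).resolve_right (by simpa using H.k_ne), add_zero, irrOne_apply]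

theorem exists_fus : ∃ (P : Sylow 2 G) (t : G), Fus P t ∧ IsPPart 2 u t := by
  obtain ⟨t, ht⟩ := exists_isPPart Nat.prime_two u
  obtain ⟨P, hP⟩ := (isPGroup_zpowers_of_pElt Nat.prime_two (isPPart_pElt ht)).exists_le_sylow
  obtain ⟨x, hx⟩ := exists_prime_orderOf_dvd_card' 2 H.two_dvd
  obtain ⟨c, hc⟩ := isConj_iff.1 (H.isConj ht ⟨1, hx⟩ (by rintro rfl; simp at hx))
  exact ⟨P, t, ⟨hP (mem_zpowers t), by rw [← hc, Block.orderOf_conj', hx], fun x => H.isConj ht⟩, ht⟩

theorem sup_Cz (P : Sylow 2 G) {N : Subgroup G} [N.Normal] (hN : (P : Subgroup G) ≤ N) :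
    N ⊔ Cz (P : Subgroup G) = ⊤ := by
  by_contra h
  have := normal_sup_Cz_of_sylIn ((Fusion.sylIn_top P).of_le hN le_top)
  set K := N ⊔ Cz (P : Subgroup G)
  have ho : Odd K.index := Nat.not_even_iff_odd.1 fun e =>
    Fgs.not_dvd_index_of_sylow_le P (hN.trans le_sup_left) e.two_dvd
  have := FT.odd_order_solvable (G := G ⧸ K) ho
  have := QuotientGroup.nontrivial_iff.2 h
  obtain ⟨g, -, hg⟩ := SetLike.exists_of_lt (IsSolvable.commutator_lt_top_of_nontrivial (G ⧸ K))
  obtain ⟨g, rfl⟩ := QuotientGroup.mk'_surjective K g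
  obtain ⟨χ, h1, h2, h3⟩ := exists_irr_le_cker_not_mem
    ((commutator (G ⧸ K)).comap (QuotientGroup.mk' K)) hg
  have hc := isCharacter_of_isIrr h1
  have h4 : χ 1 = 1 := one_eq_one_of_commutator_le h1 (le_trans (map_le_iff_le_comap.1 (by
    rw [commutator_def, map_commutator]
    exact commutator_mono le_top le_top)) h2)
  have h5 : K ≤ cker χ := le_trans (fun x hx => by
    rw [mem_comap, QuotientGroup.mk'_apply, (QuotientGroup.eq_one_iff x).2 hx]
    exact one_mem _) h2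
  have h6 := mem_principal_of_lin H.hM P (χ := ⟨χ, h1⟩) h4 (le_sup_right.trans h5)
  have h7 : (⟨χ, h1⟩ : IrrCharacter G) ≠ irrOne G := fun e =>
    h3 ((mem_cker hc).2 (by rw [show χ = _ from congrArg Subtype.val e]; rfl))
  have h8 := H.h _ (mem_bp.2 ⟨h7, h6⟩)
  have h9 := H.h _ (mem_bp.2 ⟨fun e => h7 (by rw [← irrBar_irrBar ⟨χ, h1⟩, e, irrBar_irrOne]),
    irrBar_mem_principalBlock h6⟩)
  rw [irrBar_one, irrBar_apply] at h9
  have h10 := (mem_cker hc).1 (h5 (K.pow_index_mem u))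
  obtain ⟨f, rfl⟩ := exists_unitsHom_of_one_eq_one hc h4
  simp only [map_one, map_inv, map_pow, Units.val_one, Units.val_pow_eq_pow_val,
    Units.val_inv_eq_inv_val] at h8 h9 h10
  have h11 : (f u : ℂ) * f u = 1 := by
    rw [← mul_inv_cancel₀ (f u).ne_zero]
    linear_combination (f u : ℂ) * (h9 - h8)
  rcases mul_self_eq_one_iff.1 h11 with e | e
  · exact H.k_ne (by rw [← h8, e, sub_self])
  · rw [e, ho.neg_one_pow] at h10
    norm_num at h10

theorem not_mem_cker {P : Sylow 2 G} {t : G} (F : Fus P t) {χ : IrrCharacter G}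
    (hχ : χ ∈ bp M G) : t ∉ cker (χ : G → ℂ) := fun h => by
  have h1 : (P : Subgroup G) ≤ cker (χ : G → ℂ) := fun x hx => by
    by_cases e : x = 1
    · exact e ▸ one_mem _
    obtain ⟨c, rfl⟩ := isConj_iff.1 (F.cj x (pElt_of_mem_isPGroup Nat.prime_two P.2 hx) e).symm
    exact (cker_normal _).conj_mem _ h c
  have h2 := preimage_infl_principal_eq_singleton H.hM (Fgs.not_dvd_index_of_sylow_le P h1)
    (Fusion.sylIn_top P) (H.sup_Cz P h1)
  obtain ⟨ψ, h3⟩ := exists_infl_eq _ (QuotientGroup.mk'_surjective (cker (χ : G → ℂ))) (χ := χ)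
    fun g hg => (mem_cker (irr_isCharacter χ)).1 (by simpa using hg)
  have h4 : ψ = irrOne _ := h2.le (show infl _ _ ψ ∈ _ by rw [h3]; exact (mem_bp.1 hχ).2)
  exact (mem_bp.1 hχ).1 (by rw [← h3, h4]; rfl)

end Hyp

end CfsgLib.CDeg
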