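import Mathlib
import Cfsg.Agent.Lib.CDeg.Basic
import Cfsg.Agent.Lib.WAb.Nine
import Cfsg.Agent.Lib.Fgs.AutBound
import Cfsg.Agent.S4888
import Cfsg.Agent.S4540

/-! Principal 2-blocks on which `χ 1 - χ u` is constant: degrees and centralizers. -/

namespace CfsgLib.CDeg

open Subgroup Cfsg CfsgLib.Char CfsgLib.Block CfsgLib.Blk CfsgLib.Cover CfsgLib.ChDeg CfsgLib.WAb
open CfsgLib.BrPair (Cz Nz Ce)
open scoped ComplexConjugate

variable {G : Type*} [Group G] [Finite G] {M : Ideal AlgInt}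

theorem arith {ι : Type*} (s : Finset ι) (d : ι → ℤ) {q : ℤ} (hq : q = 4 ∨ q = 8)
    (h1 : ∀ i ∈ s, -1 ≤ d i) (hn : (s.card : ℤ) + 1 ≤ q)
    (h : 1 + ∑ i ∈ s, (q + d i) * d i = 0) : 1 + ∑ i ∈ s, d i * d i ≤ 8 := by
  have h2 : ∑ i ∈ s, (d i + 1) * (d i + q - 1) = s.card * (q - 1) - 1 := by
    rw [Finset.sum_congr rfl (g := fun i => (q + d i) * d i + (q - 1)) fun i _ => by ring,
      Finset.sum_add_distrib, Finset.sum_const, nsmul_eq_mul]
    linarith
  have h3 : ∀ i ∈ s, d i * d i ≤ 2 * d i + 3 := fun i hi => by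
    have h4 := Finset.single_le_sum (f := fun i => (d i + 1) * (d i + q - 1))
      (fun i hi => by have := h1 i hi; rcases hq with rfl | rfl <;> nlinarith) hi
    have h5 := h1 i hi
    have h6 : d i ≤ 3 := by
      by_contra h7
      rcases hq with rfl | rfl <;> nlinarith
    nlinarith
  have h4 := Finset.sum_le_sum h3
  have h5 : 2 ∣ ∑ i ∈ s, d i * (d i + 1) :=
    Finset.dvd_sum fun i _ => (Int.even_mul_succ_self (d i)).two_dvd
  simp only [add_mul, mul_add, mul_one, Finset.sum_add_distrib, ← Finset.mul_sum,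
    Finset.sum_const, nsmul_eq_mul] at h h4 h5
  rcases hq with rfl | rfl <;> omega

theorem exists_avg {χ : G → ℂ} (hχ : IsCharacter G χ) (N : Subgroup G) :
    ∃ F : Nz N → ℂ, IsCharacter (Nz N) F ∧ ∀ (g : Nz N) (c : ℂ), (∀ x ∈ N, x ≠ 1 → χ (x * g) = c) →
      χ g + (Nat.card N - 1) * c = Nat.card N * F g := by
  classical
  have := Fintype.ofFinite (Nz N)
  have := Fintype.ofFinite (N.subgroupOf (Nz N))
  obtain ⟨F, h1, -, h2, -⟩ := exists_char_coset_avg (isCharacter_restrict (Nz N) hχ)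
    (N.subgroupOf (Nz N))
  refine ⟨F, h1, fun g c h => ?_⟩
  have h3 := h2 g
  rw [← Finset.add_sum_erase _ _ (Finset.mem_univ 1), Finset.sum_congr rfl (g := fun _ => c)
    fun (x : N.subgroupOf (Nz N)) hx => show χ (x.1 * g : Nz N) = c from
      h _ x.2 (by simpa using hx), Finset.sum_const,
    Finset.card_erase_of_mem (Finset.mem_univ _), Finset.card_univ, nsmul_eq_mul,
    Nat.cast_pred Fintype.card_pos, ← Nat.card_eq_fintype_card,
    Nat.card_congr (subgroupOfEquivOfLe le_normalizer).toEquiv] at h3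
  simpa using h3

namespace Fus

variable {P : Sylow 2 G} {t : G} (F : Fus P t)
include F

omit [Finite G] in
theorem cj' {x : G} (hx : x ∈ (P : Subgroup G)) (h1 : x ≠ 1) : IsConj x t :=
  F.cj x (pElt_of_mem_isPGroup Nat.prime_two P.2 hx) h1

omit [Finite G] in
theorem ne : t ≠ 1 := by
  rintro rfl
  simpa using F.ord

theorem sq {x : G} (hx : x ∈ (P : Subgroup G)) : x * x = 1 := by
  by_cases h : x = 1
  · rw [h, mul_one]
  obtain ⟨c, rfl⟩ := isConj_iff.1 (F.cj' hx h).symm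
  rw [conj_mul, ← _root_.sq, ← F.ord, pow_orderOf_eq_one, mul_one, mul_inv_cancel]

theorem comm : IsMulCommutative (P : Subgroup G) := ⟨⟨fun a b => Subtype.ext (by
  have h := F.sq (a * b).2
  have h1 := F.sq a.2
  have h2 := F.sq b.2
  calc (a : G) * b = a * (a * b * (a * b)) * b := by rw [← coe_mul, h, mul_one, coe_mul]
    _ = a * a * (b * a) * (b * b) := by group
    _ = b * a := by rw [h1, h2, one_mul, mul_one])⟩⟩

theorem le_Ce : (P : Subgroup G) ≤ Ce t := (le_Cz_of_comm F.comm).trans (Cz_le_Ce F.mem)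

theorem eq_bot (hO : pPrimeCore 2 G = ⊥) {N : Subgroup G} [hN : N.Normal] (h : t ∉ N) : N = ⊥ := by
  rw [eq_bot_iff, ← hO]
  refine Core.le_pPrimeCore (Nat.prime_two.coprime_iff_not_dvd.2 fun hd => ?_).symm
  obtain ⟨⟨x, hx⟩, hxo⟩ := exists_prime_orderOf_dvd_card' 2 hd
  rw [Subgroup.orderOf_mk] at hxo
  obtain ⟨c, rfl⟩ := isConj_iff.1 (F.cj x ⟨1, hxo⟩ (by rintro rfl; simp at hxo))
  exact h (hN.conj_mem _ hx c)

theorem kk_le (hM : IsPModular 2 M) (h8 : Nat.card (P : Subgroup G) = 8)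
    (hT : Abel2.NTrans (P : Subgroup G)) : kk M G ≤ 8 := by
  have h1 := eu_mul F.mem
  have h2 := Abel2.ncard_diff_one (P : Subgroup G)
  rw [← hT.orb_eq F.mem F.ne, h8] at h2
  have := F.comm
  have h3 := (SmallSimple.relIndex_centralizer_dvd_card_mulAut (P : Subgroup G)).trans
    (Fgs.card_mulAut_dvd_of_elementary (p := 2) (r := 3) (fun x => Subtype.ext
      ((_root_.sq _).trans (F.sq x.2))) h8)
  have h4 : ¬ 2 ∣ ee (P : Subgroup G) := fun h => P.not_dvd_index
    ((h.trans (relIndex_dvd_of_le_left _ (le_Cz_of_comm F.comm))).trans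
      (relIndex_dvd_index_of_le le_normalizer))
  have h5 : ee ((P.subtype F.le_Ce : Sylow 2 (Ce t)) : Subgroup (Ce t)) = eu (P : Subgroup G) t :=
    ee_subgroupOf F.le_Ce
  have h6 : IsMulCommutative ((P.subtype F.le_Ce : Sylow 2 (Ce t)) : Subgroup (Ce t)) :=
    ⟨⟨fun a b => Subtype.ext (Subtype.ext (Abel2.gd_comm F.comm a.2 b.2))⟩⟩
  have h7 : ll 2 M (Ce t) ≤ 3 := by
    change ee (P : Subgroup G) ∣ _ at h3
    rw [← h1, show (Abel2.orb (Nz (P : Subgroup G)) t).ncard = 7 from Nat.succ_injective h2]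
      at h3 h4
    have h9 : eu (P : Subgroup G) t ∣ 24 := Nat.dvd_of_mul_dvd_mul_right (k := 7) (by norm_num) h3
    have h10 := Nat.le_of_dvd (by norm_num) h9
    obtain e | e : eu (P : Subgroup G) t = 1 ∨ eu (P : Subgroup G) t = 3 := by
      clear h1 h3 h5
      generalize eu (P : Subgroup G) t = m at *
      interval_cases m <;> simp at h4 h9 ⊢
    · rw [(ll_eq_one_iff hM).2 (Transfer.burnside_normal_complement _
        (relIndex_eq_one.1 (h5.trans e)))]
      norm_num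
    · rw [(prime_main hM _ h6 (by rw [h5, e]; norm_num)).1, h5, e]
  have h9 := Cfsg.Agent.S4540.result M hM _ isPBlock_principalBlock _
    (isDefectGroup_principalBlock_sylow hM P) t F.mem (fun d hd => Abel2.gd_comm F.comm hd F.mem) _
    (isInducedBlock_principal hM (Q := zpowers t) (isPGroup_zpowers_of_pElt Nat.prime_two
      ⟨1, F.ord⟩) (zpowers_le.2 (self_mem_Ce t)) fun g hg y hy => hg y (hy ▸ mem_zpowers t))
    (isDefectGroup_principalBlock_sylow hM (P.subtype F.le_Ce)) h7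
  have h10 := h9.1.trans h9.2
  rw [blockDefect_principalBlock hM, ← P.card_eq_multiplicity, h8] at h10
  change Nat.card _ ≤ 8
  omega

end Fus

namespace Hyp

variable {u : G} {k : ℂ} (H : Hyp M u k) {P : Sylow 2 G} {t : G} (F : Fus P t)
  (ht : IsPPart 2 u t)
include H F

theorem orth_t : 1 + ∑ χ ∈ bp M G, (charDegree (χ : G → ℂ) : ℤ) * dv t χ = 0 := by
  have h := orth H.hM (pp_one Nat.prime_two) (isPPart_self Nat.prime_two ⟨1, F.ord⟩)
    fun e => F.ne (isConj_one_right.1 e)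
  rw [sum_bp H.hM] at h
  simp only [irrOne_apply, map_one, mul_one] at h
  simp only [← dv_eq F.ord, ← charDegree_eq (irr_isCharacter _), map_intCast] at h
  exact_mod_cast h

include ht

theorem deg {χ : IrrCharacter G} (hχ : χ ∈ bp M G) : -1 ≤ dv t χ ∧
    (charDegree (χ : G → ℂ) : ℤ) = Nat.card (P : Subgroup G) + dv t χ := by
  have := Fintype.ofFinite G
  choose! r h1 h2 h3 using fun χ (hχ : χ ∈ bp M G) =>
    exists_r F.ord P (fun x => F.cj') (H.not_mem_cker F hχ)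
  set q := Nat.card (P : Subgroup G)
  have hq : (q : ℂ) ≠ 0 := Nat.cast_ne_zero.2 Nat.card_pos.ne'
  have h4 := pow_smul_reg_eq_sum_aa H.hM isPBlock_principalBlock
    (irrOne_mem_principalBlock (G := G) H.hM)
  have h5 := congrFun h4 1
  have h6 := congrFun h4 u
  simp only [Pi.smul_apply, Finset.sum_apply, smul_eq_mul, sum_bp H.hM, irrOne_apply] at h5 h6
  rw [pRegularPart_of_reg (by simp), blockDefect_principalBlock H.hM, irrOne_apply,
    show (((2 : ℕ) : ℂ)) ^ _ = q by rw [← Nat.cast_pow, ← P.card_eq_multiplicity]] at h5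
  rw [pRegularPart_of_sing (F.ord ▸ orderOf_dvd_of_mem_zpowers
    (isPPart_mem_zpowers Nat.prime_two ht))] at h6
  set S := ∑ χ ∈ bp M G, aa 2 (principalBlock M G) (irrOne G : G → ℂ) χ
  have h7 : (S : ℂ) * k = q := by
    rw [Int.cast_sum, Finset.sum_mul, Finset.sum_congr rfl fun χ hχ => by
      rw [← H.h χ hχ, mul_sub], Finset.sum_sub_distrib]
    linear_combination h6 - h5
  have h8 := orth H.hM (pp_one Nat.prime_two) ht fun e => F.ne (isConj_one_right.1 e)
  have h9 := H.orth_t F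
  rw [sum_bp H.hM, Finset.sum_congr rfl (s₁ := bp M G) (g := fun χ => charDegree (χ : G → ℂ) *
    (charDegree (χ : G → ℂ) - conj k)) fun χ hχ => by
      rw [← H.h χ hχ, ← charDegree_eq (irr_isCharacter χ)]; simp] at h8
  rw [Finset.sum_congr rfl (s₁ := bp M G) (g := fun χ => charDegree (χ : G → ℂ) *
    (charDegree (χ : G → ℂ) - q * r χ)) fun χ hχ => by rw [h3 χ hχ]; ring] at h9
  set D : ℤ := ∑ χ ∈ bp M G, charDegree (χ : G → ℂ) with hD
  set R : ℤ := ∑ χ ∈ bp M G, charDegree (χ : G → ℂ) * r χ with hR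
  have h10 : D = R * S := by
    have e1 := congrArg (Int.cast (R := ℂ)) h9
    have e2 := congrArg conj h7
    apply Int.cast_injective (α := ℂ)
    apply mul_left_cancel₀ hq
    simp only [mul_sub, Finset.sum_sub_distrib, ← Finset.sum_mul, irrOne_apply, map_one, map_mul,
      map_intCast, map_natCast, mul_left_comm _ (q : ℤ), ← Finset.mul_sum, ← hR] at h8 e1 e2
    push_cast [hD] at e1 ⊢
    linear_combination (S : ℂ) * (e1 - h8) - (∑ χ ∈ bp M G, (charDegree (χ : G → ℂ) : ℂ)) * e2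
  have h11 : ∑ χ ∈ bp M G, (charDegree (χ : G → ℂ) : ℤ) * (r χ - 1) = R - D := by
    simp only [mul_sub, Finset.sum_sub_distrib, mul_one, hR, hD]
  have h12 : ∀ χ ∈ bp M G, 0 ≤ (charDegree (χ : G → ℂ) : ℤ) * (r χ - 1) := fun χ hχ =>
    mul_nonneg (Nat.cast_nonneg _) (sub_nonneg.2 (h1 χ hχ))
  have h13 := Finset.sum_nonneg h12
  have h14 : 0 ≤ D := Finset.sum_nonneg fun χ _ => Nat.cast_nonneg _
  have h15 : S ≠ 0 := fun e => hq (by rw [← h7, e, Int.cast_zero, zero_mul])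
  have h16 : R - D = 0 := by
    rcases lt_or_gt_of_ne h15 with e | e <;> nlinarith
  have h17 := (mul_eq_zero.1 ((Finset.sum_eq_zero_iff_of_nonneg h12).1 (h11.trans h16) χ
    hχ)).resolve_left (Nat.cast_ne_zero.2 (charDegree_ne_zero χ.2))
  have h18 := h2 χ hχ
  rw [h3 χ hχ, sub_eq_zero.1 h17, mul_one]
  exact ⟨by omega, rfl⟩

theorem exists_neg : ∃ χ ∈ bp M G, (χ : G → ℂ) t = -1 ∧
    (χ : G → ℂ) 1 = Nat.card (P : Subgroup G) - 1 := by
  by_contra h
  have h1 := H.orth_t F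
  have h2 : 0 ≤ ∑ χ ∈ bp M G, (charDegree (χ : G → ℂ) : ℤ) * dv t χ :=
    Finset.sum_nonneg fun χ hχ => mul_nonneg (Nat.cast_nonneg _) (by
      obtain ⟨e1, e2⟩ := H.deg F ht hχ
      by_contra e3
      rw [show dv t χ = -1 by omega] at e2
      refine h ⟨χ, hχ, by rw [← dv_eq F.ord, show dv t χ = -1 by omega]; simp, ?_⟩
      rw [← charDegree_eq (irr_isCharacter χ)]
      exact_mod_cast e2)
  omega

theorem npc (hq : Nat.card (P : Subgroup G) = 4 ∨ Nat.card (P : Subgroup G) = 8)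
    (hk : kk M G ≤ Nat.card (P : Subgroup G)) : HasNormalPComplement 2 (Ce t) := by
  have h1 := H.orth_t F
  rw [Finset.sum_congr rfl fun χ hχ => by rw [(H.deg F ht hχ).2]] at h1
  have h2 := arith (bp M G) (dv t) (q := Nat.card (P : Subgroup G)) (by omega)
    (fun χ hχ => (H.deg F ht hχ).1) (by
      have := sum_bp (G := G) H.hM fun _ => 1
      rw [← Finset.card_eq_sum_ones, ← Finset.card_eq_sum_ones, ← card_bf] at this
      change Nat.card _ ≤ _ at hk
      omega) h1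
  have h3 : ∑ χ ∈ bf (principalBlock M G), _ = ∑ ψ ∈ bf (principalBlock M (Ce t)), _ :=
    sum_principal_mul_mul_conj_eq H.hM ⟨1, F.ord⟩ (y := 1) (y' := 1) (by simp) (by simp)
  rw [sum_bp H.hM, sum_bp H.hM] at h3
  simp only [irrOne_apply, coe_one, mul_one, map_one] at h3
  simp only [← dv_eq F.ord, ← charDegree_eq (irr_isCharacter _), map_intCast, map_natCast] at h3
  have h4 : 1 + ∑ χ ∈ bp M G, dv t χ * dv t χ = (1 + ∑ ψ ∈ bp M (Ce t),
    charDegree (ψ : Ce t → ℂ) * charDegree (ψ : Ce t → ℂ) : ℕ) := by exact_mod_cast h3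
  refine (Cfsg.Agent.S4888.result 2 M H.hM).1 ⟨1, fun ψ hψ h0 => ?_⟩
  rw [Cfsg.Agent.S4888.height_zero_iff H.hM hψ] at h0
  by_cases e : ψ = irrOne _
  · rw [e]
    exact charDegree_eq_of_eq (n := 1) (by rw [Nat.cast_one]; rfl)
  have h5 := Finset.single_le_sum (f := fun ψ : IrrCharacter (Ce t) => charDegree (ψ : Ce t → ℂ) *
    charDegree (ψ : Ce t → ℂ)) (fun _ _ => Nat.zero_le _) (mem_bp.2 ⟨e, hψ⟩)
  have h6 : charDegree (ψ : Ce t → ℂ) < 3 := by
    by_contra h7
    have := Nat.mul_le_mul (not_lt.1 h7) (not_lt.1 h7)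
    omega
  omega

theorem cent_eq (h4 : Nat.card (P : Subgroup G) = 4) : Ce t = P := by
  have hV := isKleinFour_of_card h4 fun v => F.sq
  have hn := H.npc F ht (Or.inl h4) ((kk_ll_klein H.hM P hV).1.trans h4.symm).le
  obtain ⟨a, ha⟩ := index_pPrimeCore_of_hasNormalPComplement hn
  obtain ⟨χ, hχ, h1, h2⟩ := H.exists_neg F ht
  have hc := irr_isCharacter χ
  have h3 : ∀ y, (χ : G → ℂ) y = (χ : G → ℂ) 1 → y = 1 := fun y hy =>
    (F.eq_bot H.O (H.not_mem_cker F hχ)).le ((mem_cker hc).2 hy)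
  have h5 : ∀ N ≤ (P : Subgroup G), ∀ y ∈ Cz N, ¬ 2 ∣ orderOf y → ∀ x ∈ N, x ≠ 1 →
      (χ : G → ℂ) (x * y) = -1 := fun N hN y hy ho x hx hx1 => by
    obtain ⟨c, hc⟩ := isConj_iff.1 (F.cj' (hN hx) hx1)
    have e := isPPart_conj (isPPart_mul (hy x hx)
      (pElt_of_mem_isPGroup Nat.prime_two P.2 (hN hx)) ho) c
    rw [← irr_isClassFunction χ _ c, principal_eq_of_isPPart H.hM (hc ▸ e) ha (mem_bp.1 hχ).2, h1]
  have h6 : ∀ y ∈ Cz (P : Subgroup G), ¬ 2 ∣ orderOf y → y = 1 := fun y hy ho => by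
    obtain ⟨f, e1, e2⟩ := exists_avg hc (P : Subgroup G)
    have e3 := e2 1 _ (h5 _ le_rfl 1 (one_mem _) (by simp))
    have e4 := e2 ⟨y, centralizer_le_normalizer _ hy⟩ _ (h5 _ le_rfl y hy ho)
    have e5 := norm_char_le e1 ⟨y, centralizer_le_normalizer _ hy⟩
    rw [coe_one, h2, h4] at e3
    rw [show f 1 = 0 by push_cast at e3; linear_combination -e3 / 4, norm_zero,
      norm_le_zero_iff] at e5
    rw [e5] at e4
    exact h3 y (by rw [h2]; linear_combination e4)
  obtain ⟨s, hs, hs1, hst, -⟩ := Abel2.exists_ne_ne h4.ge t t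
  have h7 : pPrimeCore 2 (Ce t) = ⊥ := by
    obtain ⟨f, e1, e2⟩ := exists_avg hc (zpowers t)
    have hN := zpowers_le.2 F.mem
    have hC : Ce t ≤ Cz (zpowers t) := fun g hg _ ⟨i, hi⟩ =>
      hi ▸ (Commute.zpow_left (hg t rfl) i).eq
    have e3 := e2 1 _ (h5 _ hN 1 (one_mem _) (by simp))
    rw [coe_one, h2, h4, Nat.card_zpowers, F.ord] at e3
    obtain ⟨f, rfl⟩ := exists_unitsHom_of_one_eq_one e1 (by
      push_cast at e3; linear_combination -e3 / 2)
    have ho : ∀ y : pPrimeCore 2 (Ce t), ¬ 2 ∣ orderOf ((y : Ce t) : G) := fun y => by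
      rw [orderOf_coe]
      exact not_dvd_orderOf_of_mem_pPrimeCore Nat.prime_two y.2
    have hf : MonoidHom.FixedPointFree
        (MulAut.conjNormal (H := pPrimeCore 2 (Ce t)) ⟨s, F.le_Ce hs⟩) := fun y hy => by
      have e4 : s * y = y * s :=
        mul_inv_eq_iff_eq_mul.1 (congrArg (fun z : pPrimeCore 2 (Ce t) => ((z : Ce t) : G)) hy)
      have e5 := y.1.2 t rfl
      refine Subtype.ext (Subtype.ext (h6 _ (fun x hx => ?_) (ho y)))
      by_cases b1 : x = 1
      · simp [b1]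
      by_cases b2 : x = s
      · exact b2 ▸ e4
      by_cases b3 : x = t
      · exact b3 ▸ e5
      have := congrArg Subtype.val (hV.eq_mul_of_ne_all (x := ⟨s, hs⟩) (y := ⟨t, F.mem⟩)
        (z := ⟨x, hx⟩) (by simpa) (by simpa using F.ne) (by simpa) (by simpa) (by simpa) (by simpa))
      change x = s * t at this
      rw [this, mul_assoc, e5, ← mul_assoc, e4, mul_assoc]
    rw [eq_bot_iff]
    intro y hy
    have e4 := e2 ⟨y, centralizer_le_normalizer _ (hC y.2)⟩ _ (h5 _ hN y (hC y.2) (ho ⟨y, hy⟩))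
    obtain ⟨z, hz⟩ := hf.commutatorMap_surjective ⟨y, hy⟩
    have e5 : (f.comp (inclusion (hC.trans (centralizer_le_normalizer _)))) y = 1 := by
      rw [← show _ = y from congrArg Subtype.val hz]
      simp [mul_inv_cancel_comm]
    beta_reduce at e4
    rw [show f ⟨y, _⟩ = 1 from e5, Nat.card_zpowers, F.ord] at e4
    refine Subtype.ext (h3 y ?_)
    rw [h2, h4]
    push_cast at e4 ⊢
    linear_combination e4
  rw [h7, index_bot] at ha
  exact P.3 (IsPGroup.of_card ha) F.le_Ce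

end Hyp

end CfsgLib.CDeg
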