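import Mathlib
import Cfsg.Agent.Lib.CDeg.Num
import Cfsg.Agent.Lib.Gold.FactB
import Cfsg.Agent.Lib.Ward.Frame
import Cfsg.Agent.S3277

/-! Principal 2-blocks on which `χ 1 - χ u` is constant: the structure of the group. -/

namespace CfsgLib.CDeg

open Subgroup Cfsg CfsgLib.Char CfsgLib.Block CfsgLib.Blk CfsgLib.Cover CfsgLib.ChDeg CfsgLib.WAb
open CfsgLib.Abel2 CfsgLib.Comp Matrix MatrixGroups
open CfsgLib.BrPair (Cz Nz Ce)
open scoped ComplexConjugate

universe v

variable {G : Type v} [Group G] [Finite G] {M : Ideal AlgInt}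

theorem not_mem_cker_of_simple [IsSimpleGroup G] {t : G} (ht : t ≠ 1) {χ : IrrCharacter G}
    (hχ : χ ≠ irrOne G) : t ∉ cker (χ : G → ℂ) := fun h => by
  rcases (cker_normal (χ : G → ℂ)).eq_bot_or_eq_top with e | e
  · exact ht (e.le h)
  · exact hχ (Subtype.ext (irr_eq_one_of_charKer_eq_top χ.2 (charKer_eq_top_iff.2 fun g =>
      (mem_cker (irr_isCharacter χ)).1 (e.ge (mem_top g)))))

theorem two_const (h : Nat.card G = 2) {t : G} (ht : t ≠ 1) {χ : IrrCharacter G}
    (hχ : χ ≠ irrOne G) : (χ : G → ℂ) 1 - (χ : G → ℂ) t = 2 := by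
  have := isSimpleGroup_of_prime_card h
  have := isCyclic_of_prime_card h
  have h1 : orderOf t = 2 := orderOf_eq_prime (h ▸ pow_card_eq_one') ht
  obtain ⟨y, -, hy⟩ := (Nat.card_eq_two_iff' (1 : G)).1 h
  obtain ⟨r, h2, h3, h4⟩ := exists_r h1 ⊤ (fun x _ hx => by rw [hy x hx, hy t ht])
    (not_mem_cker_of_simple ht hχ)
  rw [charDegree_eq_of_eq (n := 1) (by rw [irr_one_eq_one_of_comm χ.2, Nat.cast_one]), card_top,
    h] at h4
  rw [irr_one_eq_one_of_comm χ.2, ← dv_eq h1, show dv t χ = -1 by omega]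
  norm_num

theorem psl_const {F : Type*} [Field F] [Fintype F] [CharP F 2] (h4 : 4 ≤ Fintype.card F)
    {t : PSL(2, F)} (ht : orderOf t = 2) {χ : IrrCharacter PSL(2, F)} (hχ : χ ≠ irrOne _) :
    (χ : PSL(2, F) → ℂ) 1 - (χ : PSL(2, F) → ℂ) t = Fintype.card F := by
  classical
  have hg := good_psl_even (F := F) h4
  have := hg.simple
  have h1 : t ≠ 1 := by rintro rfl; simp at ht
  obtain ⟨V, hV⟩ := (isPGroup_zpowers_of_pElt Nat.prime_two ⟨1, ht⟩).exists_le_sylow
  obtain ⟨a, -, ha⟩ := FiniteField.card F 2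
  have he : Even (Fintype.card F) := ha ▸ (Nat.even_pow.2 ⟨even_two, a.ne_zero⟩)
  have hq := (WCor.card_sylow_pslEven (F := F) a.2 ha (MulEquiv.refl _) V).trans ha.symm
  have h2 : Nat.card (IrrCharacter PSL(2, F)) = Fintype.card F + 1 := by
    rw [← card_irr_congr (SL2.pmEquiv (F := F) CharTwo.two_eq_zero), card_irr_eq_card_conjClasses,
      SL2.card_conjClasses_even he]
  choose! r b1 b2 b3 using fun χ (hχ : χ ≠ irrOne PSL(2, F)) => exists_r ht V (fun x hx hx1 =>
    even_isConj (orderOf_eq_prime ((sq x).trans (hg.elem V x hx)) hx1) ht)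
      (not_mem_cker_of_simple h1 hχ)
  have c1 := sum_irr_one_sq (G := PSL(2, F))
  have c2 := sum_irr_one_mul_of_ne_one h1
  have c3 := column_orthogonality_self t
  rw [even_cent_eq V (hV (mem_zpowers t)) h1, hq] at c3
  rw [Ward.card_psl_even he] at c1
  rw [hq] at b3
  set q := Fintype.card F
  simp only [← dv_eq ht, ← charDegree_eq (irr_isCharacter _), map_intCast] at c1 c2 c3 ⊢
  have c5 : ∑ χ : IrrCharacter PSL(2, F), ((charDegree (χ : PSL(2, F) → ℂ) : ℤ) - dv t χ) ^ 2 =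
      q ^ 3 := by
    apply Int.cast_injective (α := ℂ)
    push_cast [Nat.cast_sub (show 1 ≤ q by omega), sub_sq, Finset.sum_add_distrib,
      Finset.sum_sub_distrib, mul_assoc, ← Finset.mul_sum, sq (dv t _ : ℂ)] at c1 ⊢
    rw [c1, c2, c3]
    ring
  have c6 : (charDegree (irrOne PSL(2, F) : PSL(2, F) → ℂ) : ℤ) - dv t (irrOne _) = 0 := by
    apply Int.cast_injective (α := ℂ)
    push_cast [dv_eq ht, charDegree_eq (irr_isCharacter _), irrOne_apply]
    ring
  rw [← Finset.add_sum_erase _ _ (Finset.mem_univ (irrOne _)), c6,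
    Finset.sum_congr rfl (s₁ := Finset.univ.erase _) (g := fun χ => q ^ 2 * (r χ ^ 2 - 1) + q ^ 2)
      fun χ hχ => by rw [b3 χ (Finset.ne_of_mem_erase hχ)]; ring, Finset.sum_add_distrib,
    ← Finset.mul_sum, Finset.sum_const, Finset.card_erase_of_mem (Finset.mem_univ _),
    Finset.card_univ, ← Nat.card_eq_fintype_card, h2, Nat.add_sub_cancel, nsmul_eq_mul] at c5
  have c7 := (Finset.sum_eq_zero_iff_of_nonneg (f := fun χ => r χ ^ 2 - 1) fun χ hχ => by
    have := b1 χ (Finset.ne_of_mem_erase hχ); nlinarith).1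
      (mul_left_cancel₀ (a := (q : ℤ) ^ 2) (by positivity) (by linear_combination c5)) χ
      (Finset.mem_erase.2 ⟨hχ, Finset.mem_univ _⟩)
  have c8 := b3 χ hχ
  rw [show r χ = 1 by have := b1 χ hχ; nlinarith] at c8
  exact_mod_cast (show (charDegree (χ : PSL(2, F) → ℂ) : ℤ) - dv t χ = q by omega)

theorem sylow_eq_top (hO : pPrimeCore 2 G = ⊥) (h : HasNormalPComplement 2 G) (P : Sylow 2 G) :
    (P : Subgroup G) = ⊤ := by
  obtain ⟨a, ha⟩ := index_pPrimeCore_of_hasNormalPComplement h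
  rw [hO, index_bot, ← card_top] at ha
  exact (P.3 (IsPGroup.of_card ha) le_top).symm

omit [Finite G] in
theorem Fus.mem_of_normal {P : Sylow 2 G} {t : G} (F : Fus P t) {N : Subgroup G} [hN : N.Normal]
    (h : t ∈ N) {x : G} (hx : ∃ j : ℕ, orderOf x = 2 ^ j) : x ∈ N := by
  by_cases e : x = 1
  · exact e ▸ one_mem _
  obtain ⟨c, rfl⟩ := isConj_iff.1 (F.cj x hx e).symm
  exact hN.conj_mem _ h c

namespace Hyp

variable {u : G} {k : ℂ} (H : Hyp M u k) {P : Sylow 2 G} {t : G} (F : Fus P t)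
include H F

theorem small {N : Subgroup G} [N.Normal] (h1 : N ≠ ⊥) (h2 : IsMulCommutative N) :
    Nat.card G = 2 := by
  have h3 : (P : Subgroup G) ≤ N := fun x hx => F.mem_of_normal
    (by_contra fun e => h1 (F.eq_bot H.O e)) (pElt_of_mem_isPGroup Nat.prime_two P.2 hx)
  have h4 := H.sup_Cz P h3
  rw [sup_eq_right.2 fun x hx y hy => gd_comm h2 (h3 hy) hx] at h4
  have h5 := sylow_eq_top H.O (Transfer.burnside_normal_complement P (le_top.trans h4.ge)) P
  rw [← F.ord, ← Nat.card_zpowers, ← card_top (G := G)]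
  congr 2
  refine le_antisymm (fun x _ => ?_) le_top
  by_cases e : x = 1
  · exact e ▸ one_mem _
  obtain ⟨c, hc⟩ := isConj_iff.1 (F.cj' (h5.ge (mem_top x)) e).symm
  rw [← hc, ← h4.ge (mem_top c) t F.mem, mul_inv_cancel_right]
  exact mem_zpowers t

theorem four (ht : IsPPart 2 u t) (h4 : Nat.card (P : Subgroup G) = 4) (h2 : Nat.card G ≠ 2) :
    IsPSLEven G := by
  have h1 := H.cent_eq F ht h4
  obtain ⟨e⟩ := Cfsg.Agent.S3277.result t F.ord ((congrArg (fun K : Subgroup G => Nat.card K) h1).trans h4)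
    (fun c hc => (sq c).trans (F.sq (h1.le hc))) (fun h => h2 (H.small F (N := ⊤)
      (fun e => F.ne (e.le (mem_top t))) (sylow_eq_top H.O h P ▸ F.comm))) fun E hE he => by
    refine ⟨fun e => h2 (H.small F ?_ he.1), fun e => h2 (H.small F ?_ he.1)⟩ <;>
    · rintro rfl
      simp at e
  letI := Fintype.ofFinite (GaloisField 2 2)
  have h3 : Fintype.card (GaloisField 2 2) = 4 := by
    rw [← Nat.card_eq_fintype_card, GaloisField.card 2 2 two_ne_zero]
    rfl
  obtain ⟨e'⟩ := Ward.psl_equiv_A5 (Or.inl h3)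
  exact ⟨GaloisField 2 2, inferInstance, inferInstance, inferInstance, h3.ge, ⟨e.trans e'.symm⟩⟩

theorem psl (ht : IsPPart 2 u t) (h2 : Nat.card G ≠ 2) : IsPSLEven G := by
  by_cases h4 : Nat.card (P : Subgroup G) = 4
  · exact H.four F ht h4 h2
  have hab := ab2_of_sylow P F.comm
  have hO := H.O
  obtain ⟨L, hL⟩ := layer_ne_bot_iff.1 fun e => h2 (by
    have := sylow_eq_pCore hab hO e P
    exact H.small F (N := pCore 2 G) (fun e => F.ne ((this.trans e).le F.mem)) (this ▸ F.comm))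
  replace hL : IsComponent L := hL
  obtain ⟨v, hv, hv1, -⟩ := exists_ne_ne (comp_four_le hab hO hL P) 1 1
  have h0 := comp_inf_centralizer hab hO hL
  have h1 : (P : Subgroup G) ⊓ centralizer (L : Set G) = ⊥ := by
    rw [eq_bot_iff]
    intro z hz
    by_contra hz1
    have e1 : v * z ≠ 1 := fun e => hz1 (h0.le ⟨by
      rw [← inv_eq_of_mul_eq_one_right e]; exact L.inv_mem hv.2, hz.2⟩)
    obtain ⟨c, hc⟩ := isConj_iff.1 ((F.cj' hv.1 hv1).trans (F.cj' (mul_mem hv.1 hz.1) e1).symm)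
    have e2 : v * z ∈ L.map (MulAut.conj c).toMonoidHom := ⟨v, hv.2, hc⟩
    by_cases e3 : L.map (MulAut.conj c).toMonoidHom = L
    · rw [e3] at e2
      exact hz1 (h0.le ⟨(L.mul_mem_cancel_left hv.2).1 e2, hz.2⟩)
    · exact hv1 (h0.le ⟨hv.2, ((centralizer (L : Set G)).mul_mem_cancel_right hz.2).1
        (comp_le_centralizer_of_ne (comp_map_conj hL c) hL e3 e2)⟩)
  have h3 := comp_card_mul hab hO hL P
  rw [h1, card_bot, mul_one] at h3
  have h5 : (P : Subgroup G) ⊓ L = P := Core.eq_of_le_of_card_le inf_le_left h3.ge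
  have hPL : (P : Subgroup G) ≤ L := h5 ▸ inf_le_right
  have h6 := comp_four_le hab hO hL P
  have : L.Normal := comp_normal_of_lt hab hO hL P (by rw [h3] at h6 ⊢; nlinarith)
  have hg := good_comp hab hO hL
  have hc : Nat.card ((P.subtype hPL : Sylow 2 L) : Subgroup L) = Nat.card (P : Subgroup G) := by
    rw [Sylow.coe_subtype, Core.card_subgroupOf_of_le hPL]
  rcases classify WCor.inputs hg.simple hg.ncomm hg.ab2 with h | h | h
  · have h7 : Cz (P : Subgroup G) ≤ L := fun c hc => by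
      obtain ⟨x, hx⟩ := exists_isPPart Nat.prime_two c
      have e1 := isPPart_mem Nat.prime_two hx hc
      obtain ⟨y, rfl, -, e2, e3⟩ := hx
      have e4 := (mul_mem_cancel_left e1).1 hc
      have e5 := hg.rigid_typeI (Gold.typeI_of_isPSLEven h) (P.subtype hPL)
        (φ := MulAut.conjNormal y) (Nat.not_even_iff_odd.1 fun e =>
          e3 (e.two_dvd.trans (orderOf_map_dvd _ y))) fun w hw =>
            Subtype.ext (by simp [← e4 w hw])
      have e6 : y = 1 := (F.eq_bot hO (N := centralizer (L : Set G)) fun e =>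
        F.ne (h1.le ⟨F.mem, e⟩)).le fun w hw => by
          have := congrArg (fun φ : MulAut L => (φ ⟨w, hw⟩ : G)) e5
          exact (mul_inv_eq_iff_eq_mul.1 this).symm
      rw [e6, mul_one]
      exact F.mem_of_normal (hPL F.mem) e2
    have h8 := H.sup_Cz P hPL
    rw [sup_eq_left.2 h7] at h8
    subst h8
    obtain ⟨K, _, _, e1, e2, ⟨e⟩⟩ := h
    exact ⟨K, _, _, e1, e2, ⟨topEquiv.symm.trans e⟩⟩
  · obtain ⟨K, _, _, ho, e3, ⟨e⟩⟩ := h
    have hab' : Ab2 PSL(2, K) := hg.ab2.of_surjective e.toMonoidHom e.surjective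
    refine absurd ?_ h4
    rw [← hc, ← card_sylow_psl ho e3 ((P.subtype hPL).mapSurjective (f := e.toMonoidHom)
      e.surjective) (hab' _)]
    exact (card_map_of_injective (f := e.toMonoidHom) e.injective).symm
  · have h8 := hc.symm.trans (h.card_sylow _)
    obtain ⟨T, hTL, hTN, hT⟩ := comp_exists_free hab hO hL P
    rw [h5] at hT
    have h7 := solvable_of_npc (H.npc F ht (Or.inr h8) (h8 ▸ F.kk_le H.hM h8
      fun a ha ha1 b hb hb1 => by
        obtain ⟨y, hy, e⟩ := hT.trans a ha ha1 b hb hb1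
        exact ⟨y, hTN hy, e⟩))
    refine absurd h (not_isJR_of_solvable fun s hs => ?_)
    obtain ⟨c, e⟩ := isConj_iff.1 (F.cj s ⟨1, by rw [orderOf_coe, hs, pow_one]⟩ (by
      rintro e; rw [show s = 1 from Subtype.ext e] at hs; simp at hs)).symm
    have : Group.IsSolvable (Ce (s : G)) := by
      rw [← e, Ce, Fgs.cent_conj]
      exact Group.isSolvable_of_surjective (MonoidHom.subgroupMap_surjective _ _)
    rw [Ce, Fgs.cent_subgroupOf]
    exact Group.isSolvable_of_isSolvable_injective (f := L.subtype.subgroupComap (Ce (s : G)))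
      fun a b e => Subtype.ext (Subtype.ext (congrArg (fun x : Ce (s : G) => (x : G)) e))

omit F in
theorem main : Nat.card G = 2 ∨ IsPSLEven G ∧ u ^ 2 = 1 := by
  obtain ⟨P, t, F, ht⟩ := H.exists_fus
  refine or_iff_not_imp_left.2 fun h2 => ⟨H.psl F ht h2, (sq u).trans (F.sq ?_)⟩
  rw [← (Gold.typeI_of_isPSLEven (H.psl F ht h2) P).1 t F.mem F.ne]
  exact mem_centralizer_singleton_iff.2 (isPPart_commute Nat.prime_two ht).eq

end Hyp

end CfsgLib.CDeg
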